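import Cfsg.Agent.Lib.Asch.CertK
import Cfsg.Agent.Lib.Asch.CertP
import Cfsg.Agent.S2587

/-!
The extension field subgroup `GU₂(8).3 ∩ SU₆(2)` preserves a symplectic form up to scalars.
-/

set_option autoImplicit false

namespace H10.Asch

open Matrix Cfsg Cfsg.Geo Polynomial

theorem exists_addEquiv_pi {L V E : Type*} [Field L] [AddCommGroup V] [Finite V] [Ring E]
    [Module E V] (ρ : L →+* E) : ∃ (d : ℕ) (e : V ≃+ (Fin d → L)),
      Nat.card V = Nat.card L ^ d ∧ ∀ x v, e (ρ x • v) = x • e v := by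
  letI := Module.compHom V ρ
  haveI : Module.Finite L V := Module.Finite.of_finite
  exact ⟨_, (Module.finBasis L V).equivFun.toAddEquiv, Module.natCard_eq_pow_finrank,
    fun x v => map_smul (Module.finBasis L V).equivFun x v⟩

/-- Matrices killed by one irreducible polynomial are similar. -/
theorem exists_conj_of_irreducible {ι : Type} [Fintype ι] [DecidableEq ι] {F : Type*} [Field F]
    [Finite F] {m : F[X]} (hm : Irreducible m) {A B : Matrix ι ι F} (hA : aeval A m = 0)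
    (hB : aeval B m = 0) : ∃ P : GL ι F, (P : Matrix ι ι F) * B = A * P := by
  haveI := Fact.mk hm
  haveI : Module.Finite F (AdjoinRoot m) := (AdjoinRoot.powerBasis hm.ne_zero).finite
  haveI : Finite (AdjoinRoot m) := Module.finite_of_finite F
  have h : ∀ A : Matrix ι ι F, aeval A m = 0 → ∃ ρ : AdjoinRoot m →+* Module.End F (ι → F),
      ∀ p, ρ (AdjoinRoot.mk m p) = aeval (Matrix.toLin' A) p := fun A hA => by
    have h1 : aeval (Matrix.toLin' A) m = 0 := by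
      exact (Polynomial.aeval_algHom_apply Matrix.toLinAlgEquiv' A m).trans (by rw [hA, map_zero])
    refine ⟨Ideal.Quotient.lift (Ideal.span {m}) (aeval (Matrix.toLin' A)).toRingHom fun a ha => ?_,
      fun p => rfl⟩
    obtain ⟨b, rfl⟩ := Ideal.mem_span_singleton.1 ha
    simp [h1]
  obtain ⟨ρ, hρ⟩ := h A hA
  obtain ⟨ρ', hρ'⟩ := h B hB
  obtain ⟨d, e, h1, h2⟩ := exists_addEquiv_pi (V := ι → F) ρ
  obtain ⟨d', e', h1', h2'⟩ := exists_addEquiv_pi (V := ι → F) ρ'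
  obtain rfl : d = d' := Nat.pow_right_injective Finite.one_lt_card (h1.symm.trans h1')
  have key : ∀ p v, e.symm (e' (aeval (Matrix.toLin' B) p v)) =
      aeval (Matrix.toLin' A) p (e.symm (e' v)) := fun p v => by
    apply e.injective
    rw [← hρ, ← hρ', ← Module.End.smul_def, ← Module.End.smul_def, h2, h2',
      e.apply_symm_apply, e.apply_symm_apply]
  let T : (ι → F) ≃ₗ[F] (ι → F) :=
    { e'.trans e.symm with map_smul' := fun c v => by simpa using key (C c) v }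
  refine ⟨⟨LinearMap.toMatrix' T.toLinearMap, LinearMap.toMatrix' T.symm.toLinearMap, ?_, ?_⟩, ?_⟩
  · rw [← LinearMap.toMatrix'_comp]; simp
  · rw [← LinearMap.toMatrix'_comp]; simp
  · apply Matrix.toLin'.injective
    refine LinearMap.ext fun v => ?_
    rw [Matrix.toLin'_mul, Matrix.toLin'_mul, Matrix.toLin'_toMatrix']
    have := key X v
    rw [aeval_X, aeval_X] at this
    exact this

variable {R : Type} [CommRing R]

/-- Multiplication by a cube root of `w` on `R³ ⊕ R³`. -/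
def cS (w : R) : Matrix (Fin 6) (Fin 6) R :=
  !![0, 0, w, 0, 0, 0; 1, 0, 0, 0, 0, 0; 0, 1, 0, 0, 0, 0; 0, 0, 0, 0, 0, w; 0, 0, 0, 1, 0, 0;
    0, 0, 0, 0, 1, 0]

/-- The alternating form. -/
def bS (R : Type) [CommRing R] : Matrix (Fin 6) (Fin 6) R :=
  !![0, 0, 0, 0, 0, 1; 0, 0, 0, 0, 1, 0; 0, 0, 0, 1, 0, 0; 0, 0, -1, 0, 0, 0; 0, -1, 0, 0, 0, 0;
    -1, 0, 0, 0, 0, 0]

theorem gram_bS (a : Matrix (Fin 6) (Fin 6) R) (i j : Fin 6) : (aᵀ * bS R * a) i j =
    a 0 i * a 5 j + a 1 i * a 4 j + a 2 i * a 3 j - a 3 i * a 2 j - a 4 i * a 1 j - a 5 i * a 0 j := by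
  simp [Matrix.mul_apply, Fin.sum_univ_six, bS]
  ring

theorem exists_gram_bS {w : R} {a : Matrix (Fin 6) (Fin 6) R} (h : cS w * a = a * cS w) :
    ∃ x y z : R, aᵀ * bS R * a = !![0, 0, 0, z, y, x; 0, 0, 0, y, x, w * z; 0, 0, 0, x, w * z, w * y;
      -z, -y, -x, 0, 0, 0; -y, -x, -(w * z), 0, 0, 0; -x, -(w * z), -(w * y), 0, 0, 0] := by
  have h1 : ∀ i, a i 1 = ![w * a 2 0, a 0 0, a 1 0, w * a 5 0, a 3 0, a 4 0] i := fun i => by
    have := congrFun (congrFun h i) 0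
    fin_cases i <;> simpa [Matrix.mul_apply, Fin.sum_univ_six, cS] using this.symm
  have h2 : ∀ i, a i 2 = ![w * a 2 1, a 0 1, a 1 1, w * a 5 1, a 3 1, a 4 1] i := fun i => by
    have := congrFun (congrFun h i) 1
    fin_cases i <;> simpa [Matrix.mul_apply, Fin.sum_univ_six, cS] using this.symm
  have h4 : ∀ i, a i 4 = ![w * a 2 3, a 0 3, a 1 3, w * a 5 3, a 3 3, a 4 3] i := fun i => by
    have := congrFun (congrFun h i) 3
    fin_cases i <;> simpa [Matrix.mul_apply, Fin.sum_univ_six, cS] using this.symm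
  have h5 : ∀ i, a i 5 = ![w * a 2 4, a 0 4, a 1 4, w * a 5 4, a 3 4, a 4 4] i := fun i => by
    have := congrFun (congrFun h i) 4
    fin_cases i <;> simpa [Matrix.mul_apply, Fin.sum_univ_six, cS] using this.symm
  refine ⟨(aᵀ * bS R * a) 0 5, (aᵀ * bS R * a) 0 4, (aᵀ * bS R * a) 0 3, ?_⟩
  ext i j
  simp only [gram_bS]
  fin_cases i <;> fin_cases j <;> simp [h5, h4, h2, h1] <;> ring

theorem cube_eq_of_semiconj {ι : Type} [Fintype ι] [DecidableEq ι] {a b C C' : Matrix ι ι R}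
    (h : b * a = 1) (hm : C * a = a * C') {w : R} (hC : C ^ 3 = w • (1 : Matrix ι ι R)) :
    C' ^ 3 = w • (1 : Matrix ι ι R) := by
  have h1 : a * C' ^ 3 = C ^ 3 * a := (SemiconjBy.pow_right hm.symm 3).eq
  rw [← one_mul (C' ^ 3), ← h, mul_assoc, h1, hC, smul_mul_assoc, one_mul, mul_smul_comm]

theorem map_star_mul [StarRing R] {ι : Type} [Fintype ι] (u v : Matrix ι ι R) :
    (u * v).map star = u.map star * v.map star := Matrix.map_mul (f := starRingEnd R)

theorem unitary_gram [StarRing R] {ι : Type} [Fintype ι] [DecidableEq ι] {b B : Matrix ι ι R}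
    (hb : bᵀ * b.map star = 1) (hB : Bᵀ * B.map star = 1) :
    (bᵀ * B * b)ᵀ * (bᵀ * B * b).map star = 1 := by
  have b4 := congrArg Matrix.transpose hb
  rw [Matrix.transpose_mul, Matrix.transpose_transpose, Matrix.transpose_one, mul_eq_one_comm,
    ← Matrix.transpose_map] at b4
  rw [map_star_mul, map_star_mul, Matrix.transpose_mul, Matrix.transpose_mul,
    Matrix.transpose_transpose]
  simp only [mul_assoc]
  rw [← mul_assoc b, b4, one_mul, ← mul_assoc Bᵀ, hB, one_mul, hb]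

theorem sim_of_twist [StarRing R] {ι : Type} [Fintype ι] [DecidableEq ι] {a B C C' D : Matrix ι ι R}
    (h : ∀ b : Matrix ι ι R, bᵀ * b.map star = 1 → b.det = 1 → C * b = b * C →
      ∃ x : R, bᵀ * B * b = x • B) (ha : aᵀ * a.map star = 1) (hd : a.det = 1)
    (hm : C * a = a * C') (d1 : C' * D = D * C) (d2 : Dᵀ * D.map star = 1) (d3 : D.det = 1)
    (d4 : D * (D * D) = 1) (d5 : ∃ x : R, Dᵀ * B * D = x • B) : ∃ x : R, aᵀ * B * a = x • B := by
  have := sim_mul (h (a * D)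
    (by rw [map_star_mul, Matrix.transpose_mul, mul_assoc, ← mul_assoc aᵀ, ha, one_mul, d2])
    (by rw [Matrix.det_mul, hd, d3, one_mul])
    (by rw [← mul_assoc, hm, mul_assoc, d1, mul_assoc])) (sim_mul d5 d5)
  rwa [mul_assoc a, d4, mul_one] at this

section
open G4

theorem six_a : ∀ x y z : G4, ∀ N : Matrix (Fin 6) (Fin 6) G4, N = !![0, 0, 0, z, y, x;
    0, 0, 0, y, x, e 2 * z; 0, 0, 0, x, e 2 * z, e 2 * y; -z, -y, -x, 0, 0, 0;
    -y, -x, -(e 2 * z), 0, 0, 0; -x, -(e 2 * z), -(e 2 * y), 0, 0, 0] → Nᵀ * N.map star = 1 →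
    ∃ (c : G4) (k : Fin 3), N = c • (bS G4 * cS (e 2) ^ k.val) := by
  simp only [forall_eq]
  decide +kernel

theorem six_b : (bS G4).det = 1 := by decide +kernel

theorem six_c : (cS (e 2)).det = e 3 := by decide +kernel

theorem six_d : ∀ (c : G4) (k : Fin 3), c ^ 6 * (1 * e 3 ^ k.val) = 1 → k = 0 := by decide +kernel

theorem six_comm {b : Matrix (Fin 6) (Fin 6) G4} (b1 : bᵀ * b.map star = 1) (b2 : b.det = 1)
    (b3 : cS (e 2) * b = b * cS (e 2)) : ∃ x : G4, bᵀ * bS G4 * b = x • bS G4 := by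
  obtain ⟨x, y, z, h⟩ := exists_gram_bS b3
  obtain ⟨c, k, hk⟩ := six_a x y z _ h (unitary_gram b1 (by decide +kernel))
  have b6 : (bᵀ * bS G4 * b).det = 1 := by
    rw [Matrix.det_mul, Matrix.det_mul, Matrix.det_transpose, b2, one_mul, mul_one, six_b]
  rw [hk, Matrix.det_smul, Matrix.det_mul, Matrix.det_pow, six_b, six_c, Fintype.card_fin] at b6
  obtain rfl := six_d c k b6
  exact ⟨c, by rw [hk, Fin.val_zero, pow_zero, mul_one]⟩

set_option synthInstance.maxSize 4000 in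
theorem six_e : ∀ m < 9, (cS (e 2) ^ m) ^ 3 = e 2 • (1 : Matrix _ _ G4) → ∃ u : G4,
    ∀ D, D = diagonal ![1, u, u * u, 1, u, u * u] → cS (e 2) ^ m * D = D * cS (e 2) ∧
      Dᵀ * D.map star = 1 ∧ ∏ i, ![1, u, u * u, 1, u, u * u] i = 1 ∧ D * (D * D) = 1 ∧
      ∃ x : G4, Dᵀ * bS G4 * D = x • bS G4 := by
  simp only [forall_eq]
  decide +kernel

theorem six_f : cS (e 2) ^ 3 = e 2 • (1 : Matrix _ _ G4) := by decide +kernel

theorem six_nrm {a : Matrix (Fin 6) (Fin 6) G4} (ha : aᵀ * a.map star = 1) (hd : a.det = 1) {m : ℕ}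
    (h9 : m < 9) (hm : cS (e 2) * a = a * cS (e 2) ^ m) : ∃ x : G4, aᵀ * bS G4 * a = x • bS G4 := by
  have h5 := congrArg Matrix.transpose ha
  rw [Matrix.transpose_mul, Matrix.transpose_transpose, Matrix.transpose_one] at h5
  obtain ⟨u, hu⟩ := six_e m h9 (cube_eq_of_semiconj h5 hm six_f)
  obtain ⟨d1, d2, d3, d4, d5⟩ := hu _ rfl
  exact sim_of_twist (fun _ => six_comm) ha hd hm d1 d2 (Matrix.det_diagonal.trans d3) d4 d5

end

open G4 in
set_option maxRecDepth 100000 in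
set_option synthInstance.maxSize 4000 in
theorem field_six_two {F : Type*} [Field F] [Fintype F] (hF : Fintype.card F = 2 ^ 2)
    {K : Subalgebra F (Matrix (Fin 6) (Fin 6) F)} (hK : IsFieldSubalgebra 3 K)
    (hadj : IsAdjointClosedFor (hermForm 6 F 2) K) {H : Subgroup (GL (Fin 6) F)}
    (hH : H ≤ subalgebraNormalizer K) :
    ¬ IsMaximalIn (GU 6 F 2 ⊓ specialLinear (Fin 6) F) H := by
  obtain ⟨M⟩ := exists_mdl_two hF
  obtain ⟨θ, hθ, h1, h2, h3⟩ := M.exists_unitary (k := 9) (c := 1) hK hadj (by rw [hF]; norm_num)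
    (a := e 2) (by decide +kernel) (by decide +kernel) fix_nine
  have h9 : θ ^ 9 = 1 := by rw [← h1]; exact pow_orderOf_eq_one θ
  have hω : M.φ (e 2) * M.φ (e 2) + M.φ (e 2) + 1 = 0 := by
    simpa using congrArg M.φ (show e 2 * e 2 + e 2 + 1 = 0 by decide +kernel)
  obtain ⟨l, hl, l2, l3, l4⟩ : ∃ l ∈ K, lᵀ * l.map M.σ = 1 ∧ l ^ 3 = M.φ (e 2) • (1 : Matrix _ _ F) ∧
      ∀ x ∈ K, x ^ 9 = 1 → ∃ j, x = l ^ j := by
    set ω := M.φ (e 2)
    have z1 : θ ^ 3 - 1 ≠ 0 := fun h => by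
      have := orderOf_dvd_of_pow_eq_one (sub_eq_zero.1 h)
      rw [h1] at this; omega
    have z2 : θ ^ 3 * θ ^ 3 + θ ^ 3 + 1 = 0 :=
      (IsFieldSubalgebra.mul_eq_zero hK (K.sub_mem (K.pow_mem hθ 3) K.one_mem) (by
        rw [← sub_self 1]; nth_rewrite 3 [← h9]; noncomm_ring)).resolve_left z1
    have z3 : (θ ^ 3 - ω • 1) * (θ ^ 3 - (ω * ω) • 1) = 0 := by
      have e1 : ω * ω = -1 - ω := by linear_combination hω
      have e2 : ω * (-1 - ω) = 1 := by linear_combination -hω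
      rw [← z2, e1]
      simp only [mul_sub (_ : Matrix _ _ F), sub_mul (_ : Matrix _ _ F), mul_smul_comm,
        smul_mul_assoc, mul_one, one_mul, smul_sub, smul_smul]
      rw [mul_comm _ ω, e2]
      module
    rcases IsFieldSubalgebra.mul_eq_zero hK (K.sub_mem (K.pow_mem hθ 3) (K.smul_mem K.one_mem _)) z3 with h | h
    · exact ⟨θ, hθ, h2, sub_eq_zero.1 h, h3⟩
    · refine ⟨θ * θ, K.mul_mem hθ hθ, ?_, ?_, fun x hx hx' => ?_⟩
      · rw [Matrix.transpose_mul, Matrix.map_mul, mul_assoc, ← mul_assoc _ (θ.map _), h2, one_mul, h2]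
      · rw [(Commute.refl θ).mul_pow, sub_eq_zero.1 h, smul_mul_smul_comm, mul_one]
        congr 1
        linear_combination (ω * ω - ω) * hω
      · obtain ⟨j, rfl⟩ := h3 x hx hx'
        exact ⟨5 * j, by rw [pow_mul, ← sq, ← pow_mul θ 2 5, pow_succ' θ 9, h9, mul_one]⟩
  have hC : (cS (e 2))ᵀ * (cS (e 2)).map star = 1 := by decide +kernel
  obtain ⟨P, hP⟩ := exists_conj_of_irreducible (X_pow_sub_C_irreducible_of_prime Nat.prime_three
    (a := M.φ (e 2)) fun b hb => by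
      obtain ⟨b, rfl⟩ := M.φ.surjective b
      rw [← map_pow] at hb
      exact (by decide +kernel : ∀ b : G4, b ^ 3 ≠ e 2) b (M.φ.injective hb))
    (A := l) (B := (cS (e 2)).map M.φ) (by
      rw [map_sub, aeval_X_pow, aeval_C, l3, Algebra.algebraMap_eq_smul_one, sub_self]) (by
      rw [map_sub, aeval_X_pow, aeval_C, Algebra.algebraMap_eq_smul_one, sub_eq_zero]
      refine (map_pow (M.φ.mapMatrix (m := Fin 6)) _ 3).symm.trans ?_
      rw [six_f]; ext i j
      by_cases hij : i = j <;> simp [hij])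
  obtain ⟨y, rfl⟩ := M.exists_GU l2
  obtain ⟨x, hx⟩ := M.exists_GU (M.map_unitary hC)
  obtain ⟨g, hg⟩ := isConj_iff.1 ((Cfsg.Agent.S2587.result hF x y).2 (isConj_iff.2 ⟨P, by
    rw [mul_inv_eq_iff_eq_mul]; exact Units.ext (by rw [Units.val_mul, Units.val_mul, hx, hP])⟩))
  have hG := M.mem_GU.1 g.2
  refine M.not_max (G := 1) (hG.trans M.map_one'.symm) (by decide +kernel)
    (fun a => ∃ x : G4, aᵀ * bS G4 * a = x • bS G4) ⟨1, by simp⟩ (fun a b => sim_mul)
    (s := !![e 0, e 0, e 0, e 0, e 0, e 1; e 0, e 1, e 0, e 0, e 0, e 0; e 0, e 0, e 1, e 0, e 0, e 0;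
      e 0, e 0, e 0, e 1, e 0, e 0; e 0, e 0, e 0, e 0, e 1, e 0; e 1, e 0, e 0, e 0, e 0, e 0])
    (t := !![e 0, e 0, e 0, e 0, e 1, e 0; e 0, e 1, e 0, e 0, e 0, e 0; e 0, e 0, e 1, e 0, e 0, e 0;
      e 0, e 0, e 0, e 1, e 0, e 0; e 1, e 0, e 0, e 0, e 0, e 0; e 0, e 0, e 0, e 0, e 0, e 1])
    (by decide +kernel) (by decide +kernel) (by decide +kernel) (by decide +kernel)
    (by decide +kernel) (by decide +kernel) fun h hh a ha hd e' => ?_
  rw [mul_one] at ha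
  obtain ⟨m, hm⟩ := M.exists_pow_of_nrm (k := 9) (C := cS (e 2)) hG hl
    (by rw [show 9 = 3 * 3 from rfl, pow_mul, l3, _root_.smul_pow, one_pow,
      show M.φ (e 2) ^ 3 = 1 by linear_combination (M.φ (e 2) - 1) * hω, one_smul]) l4
    (by rw [← hx, ← Units.val_mul, ← Units.val_mul, ← hg]; simp) (hH hh) e'
  rw [pow_eq_pow_mod m (show cS (e 2) ^ 9 = 1 by decide +kernel)] at hm
  have hm9 := Nat.mod_lt m (show 0 < 9 by norm_num)
  generalize m % 9 = m at hm hm9
  refine ⟨six_nrm ha hd hm9 hm, fun h => ?_⟩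
  subst h
  revert m
  decide +kernel

end H10.Asch
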