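import Cfsg.Agent.Base

/-!
Kernel-friendly models of the fields with 4, 9 and 25 elements (arithmetic by table look-up).
-/

set_option autoImplicit false

namespace H10.Asch

/-- A kernel-friendly copy of the field with 4 elements. -/
def G4 : Type := Fin 4

namespace G4

/-- The element with a given code. -/
def e (n : ℕ) : G4 := Fin.ofNat 4 n

instance instDecEq : DecidableEq G4 := instDecidableEqFin 4
instance instFintype : Fintype G4 := Fin.fintype 4
instance instZero : Zero G4 := ⟨e 0⟩
instance instOne : One G4 := ⟨e 1⟩
instance instAdd : Add G4 := ⟨fun a b => e (Nat.mod (Nat.shiftRight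
  0x1b4eb1e4
  (Nat.mul 2 (Nat.add (Nat.mul 4 a.val) b.val))) 4)⟩
instance instMul : Mul G4 := ⟨fun a b => e (Nat.mod (Nat.shiftRight
  0x9c78e400
  (Nat.mul 2 (Nat.add (Nat.mul 4 a.val) b.val))) 4)⟩
instance instNeg : Neg G4 := ⟨fun a => e (Nat.mod (Nat.shiftRight 0xe4
  (Nat.mul 2 a.val)) 4)⟩
instance instStar : Star G4 := ⟨fun a => e (Nat.mod (Nat.shiftRight 0xb4
  (Nat.mul 2 a.val)) 4)⟩

instance instCommRing : CommRing G4 :=
  CommRing.ofMinimalAxioms (by decide +kernel) (by decide +kernel) (by decide +kernel)
    (by decide +kernel) (by decide +kernel) (by decide +kernel) (by decide +kernel)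

instance instStarRing : StarRing G4 where
  star_involutive := by unfold Function.Involutive; decide +kernel
  star_mul := by decide +kernel
  star_add := by decide +kernel

theorem isField : IsField G4 where
  exists_pair_ne := ⟨0, 1, by decide +kernel⟩
  mul_comm := mul_comm
  mul_inv_cancel := by
    intro a
    revert a
    decide +kernel

theorem star_eq : ∀ a : G4, star a = a ^ 2 := by decide +kernel

theorem card : Fintype.card G4 = 2 ^ 2 := by decide +kernel

end G4

/-- A kernel-friendly copy of the field with 9 elements. -/
def G9 : Type := Fin 9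

namespace G9

/-- The element with a given code. -/
def e (n : ℕ) : G9 := Fin.ofNat 9 n

instance instDecEq : DecidableEq G9 := instDecidableEqFin 9
instance instFintype : Fintype G9 := Fin.fintype 9
instance instZero : Zero G9 := ⟨e 0⟩
instance instOne : One G9 := ⟨e 1⟩
instance instAdd : Add G9 := ⟨fun a b => e (Nat.mod (Nat.shiftRight
  0x435102768354021687543210876102768435021687354210876543768435102687354021876543210
  (Nat.mul 4 (Nat.add (Nat.mul 9 a.val) b.val))) 16)⟩
instance instMul : Mul G9 := ⟨fun a b => e (Nat.mod (Nat.shiftRight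
  0x615237480138624570582471360264318750327165840741852630453786120876543210000000000
  (Nat.mul 4 (Nat.add (Nat.mul 9 a.val) b.val))) 16)⟩
instance instNeg : Neg G9 := ⟨fun a => e (Nat.mod (Nat.shiftRight 0x453786120
  (Nat.mul 4 a.val)) 16)⟩
instance instStar : Star G9 := ⟨fun a => e (Nat.mod (Nat.shiftRight 0x543876210
  (Nat.mul 4 a.val)) 16)⟩

instance instCommRing : CommRing G9 :=
  CommRing.ofMinimalAxioms (by decide +kernel) (by decide +kernel) (by decide +kernel)
    (by decide +kernel) (by decide +kernel) (by decide +kernel) (by decide +kernel)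

instance instStarRing : StarRing G9 where
  star_involutive := by unfold Function.Involutive; decide +kernel
  star_mul := by decide +kernel
  star_add := by decide +kernel

theorem isField : IsField G9 where
  exists_pair_ne := ⟨0, 1, by decide +kernel⟩
  mul_comm := mul_comm
  mul_inv_cancel := by
    intro a
    revert a
    decide +kernel

theorem star_eq : ∀ a : G9, star a = a ^ 3 := by decide +kernel

theorem card : Fintype.card G9 = 3 ^ 2 := by decide +kernel

end G9

/-- A kernel-friendly copy of the field with 25 elements. -/
def G25 : Type := Fin 25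

namespace G25

/-- The element with a given code. -/
def e (n : ℕ) : G25 := Fin.ofNat 25 n

instance instDecEq : DecidableEq G25 := instDecidableEqFin 25
instance instFintype : Fintype G25 := Fin.fintype 25
instance instZero : Zero G25 := ⟨e 0⟩
instance instOne : One G25 := ⟨e 1⟩
instance instAdd : Add G25 := ⟨fun a b => e (Nat.mod (Nat.shiftRight
  0x128c1f36b16a720e62a46208097b56988c1f39316a734e62a50208083b5698bc1f39456a735862a5070808315698bd9f39460a7358b2a5073008310698bdab39460f7358b525073148310418bdab46b16a720e62a46208097b56989460f9b16a734e62a50208083b5698bc60f9c96a735862a5070808315698bda0f9ca2a7358b2a5073008310698bdaaf9ca307358b525073148310418bdab49ca307a0e62a46208097b56989460f9b58b538e62a50208083b5698bc60f9c98b539a62a5070808315698bda0f9ca2b539ac2a5073008310698bdaaf9ca30539ac5a5073148310418bdab49ca307b9ac5a86208097b56989460f9b58b539073152208083b5698bc60f9c98b539a7315280808315698bda0f9ca2b539ac315283808310698bdaaf9ca30539ac595283988310418bdab49ca307b9ac5a928398b7b56989460f9b58b539073152310404b5698bc60f9c98b539a731528104041d698bda0f9ca2b539ac315283840418a98bdaaf9ca30539ac595283980418838bdab49ca307b9ac5a928398a418820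
  (Nat.mul 5 (Nat.add (Nat.mul 25 a.val) b.val))) 32)⟩
instance instMul : Mul G25 := ⟨fun a b => e (Nat.mod (Nat.shiftRight
  0xd9d0277d44875869540855c6e664b009d4656050a8e1afb10d4125723ba17050667458fb85243aa55860456a173b002574ad7119537e0675b2142212d8d407646c24ba7821970a850d95c6553e80785974e0b01346ea1a27911555d9130550f138b122ef30b6871aac9833069004ab9a70232882c82eb60ef1adb54c4088855812e89954b31b1e46d8ceb9e0076133236e890d963c44ba9a01550af059a4798732d589a2c5250628c40f77006f3e16e0c8b6a309041aea14e29ab409b2870a34333ac912dc4f455d23618051247a9a8e1c4502e1b7605e99a2cb040d558627b305245da39a70e23cb450094831071e1eb518579c9c50dab16a4051620d928e4a86ef625c61d2369ad005a454912cf69a2a407051d66cbc1c70456525d491da08155ee0d26d3e24c302f26a07582cc1c4dc925a2c38a8f514063a1255b1ae542329beb6be28110c806396d55b15bd0e9320b19c24f1102304a138bd0649cb7ae2d46adcc50c2410317b56939460f7358b525073148310400000000000000000000000000000000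
  (Nat.mul 5 (Nat.add (Nat.mul 25 a.val) b.val))) 32)⟩
instance instNeg : Neg G25 := ⟨fun a => e (Nat.mod (Nat.shiftRight 0x63a1255b1ae542329beb6be28110c80
  (Nat.mul 5 a.val)) 32)⟩
instance instStar : Star G25 := ⟨fun a => e (Nat.mod (Nat.shiftRight 0x941cc57358b54e5183f17b568418820
  (Nat.mul 5 a.val)) 32)⟩

instance instCommRing : CommRing G25 :=
  CommRing.ofMinimalAxioms (by decide +kernel) (by decide +kernel) (by decide +kernel)
    (by decide +kernel) (by decide +kernel) (by decide +kernel) (by decide +kernel)

instance instStarRing : StarRing G25 where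
  star_involutive := by unfold Function.Involutive; decide +kernel
  star_mul := by decide +kernel
  star_add := by decide +kernel

theorem isField : IsField G25 where
  exists_pair_ne := ⟨0, 1, by decide +kernel⟩
  mul_comm := mul_comm
  mul_inv_cancel := by
    intro a
    revert a
    decide +kernel

theorem star_eq : ∀ a : G25, star a = a ^ 5 := by decide +kernel

theorem card : Fintype.card G25 = 5 ^ 2 := by decide +kernel

end G25

/-- Every field with `q²` elements is a copy of a given model. -/
theorem exists_model {R : Type} [CommRing R] [StarRing R] [Fintype R] (hR : IsField R) {q : ℕ}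
    (hc : Fintype.card R = q ^ 2) (hs : ∀ a : R, star a = a ^ q) {F : Type*} [Field F] [Fintype F]
    (hF : Fintype.card F = q ^ 2) : ∃ φ : R ≃+* F, ∀ a, φ (star a) = φ a ^ q := by
  letI := hR.toField
  exact ⟨FiniteField.ringEquivOfCardEq (hc.trans hF.symm), fun a => by rw [hs, map_pow]⟩

end H10.Asch
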